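import Mathlib
import Cfsg.Agent.H93.RC.Defs
import Cfsg.Agent.H200.SelfAdj
import Cfsg.Agent.ClassicalGeometry.OrthSemiCount
import Cfsg.Agent.UGT.U2.FOne.OrthScal

/-!
# S3510, row F, box F5 (helper205): scaling of linear semisimilitudes in odd dimension

* `exists_iso` : a linear semisimilitude of prime order modulo scalars is a scalar times an isometry `g`, `g ^ r = 1`;
* `comm_exact` : a semisimilitude commuting with `g` up to a scalar commutes with `g`;
* `odd_skew` : there is no invertible skew map in odd dimension.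
-/

set_option autoImplicit false
set_option linter.unusedSectionVars false

namespace Cfsg.Agent.H205.RC

open Cfsg QuadraticMap Module Matrix
open Cfsg.Agent.LieClassical.OrthCore Cfsg.Agent.LieClassical.OrthTrans
open Cfsg.Agent.LieClassical.OrthSimple Cfsg.Agent.ClassicalGeometry.OrthSemi
open Cfsg.Agent.H93.RC

variable {F V : Type*} [Field F] [AddCommGroup V] [Module F V] [FiniteDimensional F V] {Q : QuadraticForm F V}

theorem polar_iso {g : V ≃ₗ[F] V} (hg : ∀ v, Q (g v) = Q v) (v w : V) : polar Q (g v) (g w) = polar Q v w := by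
  rw [polar, polar, ← map_add, hg, hg, hg]

theorem exists_nonsing (hQ : Nondeg Q) {x : V} (hx : x ≠ 0) : ∃ v : V, Q v ≠ 0 := by
  obtain ⟨y, hy⟩ := hQ.exists_polar_ne hx
  by_contra hcon
  push Not at hcon
  apply hy
  rw [polar, hcon, hcon, hcon, sub_zero, sub_zero]

theorem exists_ne_of_odd (hodd : Odd (finrank F V)) : ∃ x : V, x ≠ 0 := by
  by_contra hcon
  push Not at hcon
  have : Subsingleton V := ⟨fun a b => by rw [hcon a, hcon b]⟩
  rw [finrank_zero_of_subsingleton] at hodd
  exact absurd hodd (by decide)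

/-- a linear semisimilitude has trivial field automorphism -/
theorem refl_of_lin {M : Gam Q} (hl : IsLin M) {σ : F ≃+* F} {c : F} (h : IsSS Q σ c M.1) {x : V} (hx : x ≠ 0) :
    IsSS Q (RingEquiv.refl F) c M.1 := by
  have hσ : ∀ a, σ a = a := by
    intro a
    have h1 := h.smul a x
    rw [hl a x] at h1
    have h2 : M.1 x ≠ 0 := by
      intro h0
      apply hx
      apply M.1.injective
      rw [h0, h.map_zero]
    exact (smul_left_injective F h2 h1).symm
  refine ⟨h.ne, h.add, fun a v => ?_, fun v => ?_⟩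
  · rw [h.smul, hσ]; rfl
  · rw [h.form, hσ]; rfl

/-- **a linear semisimilitude of prime order modulo scalars, odd dimension** -/
theorem exists_iso (hQ : Nondeg Q) (h2 : (2 : F) ≠ 0) (hodd : Odd (finrank F V)) {M : Gam Q} (hl : IsLin M) {r : ℕ}
    (hr : r.Prime) (hpow : IsScal (M ^ r)) :
    ∃ (g : V ≃ₗ[F] V) (a : F), a ≠ 0 ∧ (∀ v, M.1 v = a • g v) ∧ (∀ v, Q (g v) = Q v) ∧ g ^ r = 1 := by
  obtain ⟨x, hx⟩ := exists_ne_of_odd hodd
  obtain ⟨σ, c, h⟩ := M.2
  have h := refl_of_lin hl h hx
  obtain ⟨d, hd⟩ := Cfsg.Agent.ClassicalGeometry.OrthSemiCount.isSquare_of_odd h2 hQ hodd h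
  have hd0 : d ≠ 0 := by
    rintro rfl
    exact h.ne (by rw [hd, mul_zero])
  let g0 : V ≃ₗ[F] V :=
    { toFun := fun v => d⁻¹ • M.1 v
      invFun := fun v => M.1.symm (d • v)
      map_add' := fun u v => by rw [h.add, smul_add]
      map_smul' := fun a v => by
        rw [hl a v, smul_comm]
        rfl
      left_inv := fun v => by
        change M.1.symm (d • d⁻¹ • M.1 v) = v
        rw [smul_inv_smul₀ hd0, Equiv.symm_apply_apply]
      right_inv := fun v => by
        change d⁻¹ • M.1 (M.1.symm (d • v)) = v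
        rw [Equiv.apply_symm_apply, inv_smul_smul₀ hd0] }
  have hg0 : ∀ v, g0 v = d⁻¹ • M.1 v := fun v => rfl
  have hM : ∀ v, M.1 v = d • g0 v := by
    intro v
    rw [hg0, smul_inv_smul₀ hd0]
  have hQ0 : ∀ v, Q (g0 v) = Q v := by
    intro v
    rw [hg0, QuadraticMap.map_smul, h.form, smul_eq_mul, hd]
    change d⁻¹ * d⁻¹ * (d * d * Q v) = Q v
    field_simp
  obtain ⟨b, hb0, hb⟩ := hpow
  have hpw : ∀ (k : ℕ) (v : V), (M ^ k).1 v = d ^ k • (g0 ^ k) v := by
    intro k
    induction k with
    | zero => intro v; rw [pow_zero, pow_zero, pow_zero, one_smul]; rfl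
    | succ k ih =>
      intro v
      rw [pow_succ, pow_succ, pow_succ]
      change (M ^ k).1 (M.1 v) = _
      rw [ih, hM, map_smul, smul_smul]
      rfl
  have hb' : ∀ v, (g0 ^ r) v = (b / d ^ r) • v := by
    intro v
    have h3 := hpw r v
    rw [hb] at h3
    rw [div_eq_inv_mul, mul_smul, h3, inv_smul_smul₀ (pow_ne_zero r hd0)]
  set b' := b / d ^ r with hbb
  have hQk : ∀ (k : ℕ) (v : V), Q ((g0 ^ k) v) = Q v := by
    intro k
    induction k with
    | zero => intro v; rfl
    | succ k ih =>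
      intro v
      rw [pow_succ]
      change Q ((g0 ^ k) (g0 v)) = Q v
      rw [ih, hQ0]
  have hb2 : b' ^ 2 = 1 := by
    obtain ⟨v, hv⟩ := exists_nonsing hQ hx
    have h3 := hQk r v
    rw [hb', QuadraticMap.map_smul, smul_eq_mul] at h3
    have h4 : (b' ^ 2 - 1) * Q v = 0 := by linear_combination h3
    exact sub_eq_zero.1 ((mul_eq_zero.1 h4).resolve_right hv)
  have hb1 : b' = 1 ∨ b' = -1 := mul_self_eq_one_iff.1 (by rw [← pow_two]; exact hb2)
  rcases hb1 with hb1 | hb1
  · refine ⟨g0, d, hd0, hM, hQ0, ?_⟩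
    ext v
    rw [hb', hb1, one_smul]
    rfl
  · rcases hr.eq_two_or_odd' with hr2 | hro
    · exfalso
      subst hr2
      have h3 : LinearMap.det (g0 : V →ₗ[F] V) ^ 2 = 1 := by
        have h4 := Cfsg.Agent.H200.SelfAdj.det_sq_quad hQ (g := (g0 : V →ₗ[F] V)) (c := 1) (fun v => by
          rw [one_mul]; exact hQ0 v)
        rwa [one_pow] at h4
      have h4 : (g0 : V →ₗ[F] V) ∘ₗ (g0 : V →ₗ[F] V) = (-1 : F) • LinearMap.id := by
        ext v
        have h5 := hb' v
        rw [hb1, pow_two] at h5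
        exact h5
      have h5 := congrArg LinearMap.det h4
      rw [LinearMap.det_comp, LinearMap.det_smul, LinearMap.det_id, mul_one, hodd.neg_one_pow, ← pow_two, h3] at h5
      apply h2
      linear_combination h5
    · let ng : V ≃ₗ[F] V := (LinearEquiv.neg F).trans g0
      have hng : ∀ v, ng v = -g0 v := fun v => by
        change g0 (-v) = -g0 v
        rw [map_neg]
      refine ⟨ng, -d, neg_ne_zero.2 hd0, fun v => by rw [hng, neg_smul, smul_neg, neg_neg]; exact hM v,
        fun v => by rw [hng, QuadraticMap.map_neg, hQ0], ?_⟩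
      have h3 : ∀ (k : ℕ) (v : V), (ng ^ k) v = (-1 : F) ^ k • (g0 ^ k) v := by
        intro k
        induction k with
        | zero => intro v; rw [pow_zero, pow_zero, pow_zero, one_smul]
        | succ k ih =>
          intro v
          rw [pow_succ, pow_succ, pow_succ]
          change (ng ^ k) (ng v) = _
          rw [ih, hng, map_neg, mul_neg_one, neg_smul, smul_neg]
          rfl
      ext v
      rw [h3, hb', hb1, hro.neg_one_pow, smul_smul]
      norm_num

theorem comm_pow {g : V ≃ₗ[F] V} {M : Gam Q} {a : F}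
    (h : ∀ v, M.1 (g v) = a • g (M.1 v)) (k : ℕ) : ∀ v, M.1 ((g ^ k) v) = a ^ k • (g ^ k) (M.1 v) := by
  induction k with
  | zero => intro v; rw [pow_zero, pow_zero, one_smul]; rfl
  | succ k ih =>
    intro v
    rw [pow_succ, pow_succ]
    change M.1 ((g ^ k) (g v)) = _
    rw [ih, h, map_smul, smul_smul]
    rfl

/-- **exact commutation** -/
theorem comm_exact [Finite F] (hQ : Nondeg Q) (h2 : (2 : F) ≠ 0) (hodd : Odd (finrank F V)) {g : V ≃ₗ[F] V}
    (hg : ∀ v, Q (g v) = Q v) {r : ℕ} (hr : r.Prime) (hgr : g ^ r = 1) {M : Gam Q} {a : F}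
    (h : ∀ v, M.1 (g v) = a • g (M.1 v)) : ∀ v, M.1 (g v) = g (M.1 v) := by
  obtain ⟨x, hx⟩ := exists_ne_of_odd hodd
  obtain ⟨σ, c, hM⟩ := M.2
  have hinj : ∀ v, M.1 v = 0 → v = 0 := by
    intro v hv
    apply M.1.injective
    rw [hv, hM.map_zero]
  suffices ha : a = 1 by
    intro v
    rw [h, ha, one_smul]
  have ha2 : a ^ 2 = 1 := by
    obtain ⟨v, hv⟩ := exists_nonsing hQ hx
    obtain ⟨w, rfl⟩ := M.1.surjective v
    have h3 : Q (M.1 (g w)) = Q (M.1 w) := by rw [hM.form, hM.form, hg]
    rw [h, QuadraticMap.map_smul, hg, smul_eq_mul] at h3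
    have h4 : (a ^ 2 - 1) * Q (M.1 w) = 0 := by linear_combination h3
    exact sub_eq_zero.1 ((mul_eq_zero.1 h4).resolve_right hv)
  have har : a ^ r = 1 := by
    have h3 := comm_pow h r x
    rw [hgr] at h3
    have h4 : (1 - a ^ r) • M.1 x = 0 := by
      rw [sub_smul, one_smul]
      exact sub_eq_zero.2 h3
    have h5 : M.1 x ≠ 0 := fun h0 => hx (hinj x h0)
    exact (sub_eq_zero.1 ((smul_eq_zero.1 h4).resolve_right h5)).symm
  rcases hr.eq_two_or_odd' with hr2 | hro
  · subst hr2
    rcases mul_self_eq_one_iff.1 ((pow_two a).symm.trans ha2) with h1 | h1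
    · exact h1
    · exfalso
      subst h1
      let e1 := Cfsg.Agent.H200.SelfAdj.eig (g : V →ₗ[F] V) 1
      let e2 := Cfsg.Agent.H200.SelfAdj.eig (g : V →ₗ[F] V) (-1)
      have hc : IsCompl e1 e2 := Cfsg.Agent.H200.SelfAdj.isCompl_eig h2 one_ne_zero (fun v => by
        rw [mul_one, one_smul]
        have h3 : (g ^ 2) v = v := by rw [hgr]; rfl
        rwa [pow_two] at h3)
      have hsum := Submodule.finrank_add_eq_of_isCompl hc
      have m1 : ∀ v, v ∈ e1 ↔ g v = v := by
        intro v
        rw [Cfsg.Agent.H200.SelfAdj.mem_eig, one_smul]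
        rfl
      have m2 : ∀ v, v ∈ e2 ↔ g v = -v := by
        intro v
        rw [Cfsg.Agent.H200.SelfAdj.mem_eig, neg_smul, one_smul]
        rfl
      have hcard : Nat.card e1 = Nat.card e2 := by
        refine Nat.card_congr ⟨fun v => ⟨M.1 v.1, ?_⟩, fun v => ⟨M.1.symm v.1, ?_⟩, ?_, ?_⟩
        · rw [m2]
          have h3 := h v.1
          rw [(m1 _).1 v.2, neg_smul, one_smul] at h3
          have h4 := congrArg Neg.neg h3
          rw [neg_neg] at h4
          exact h4.symm
        · rw [m1]
          apply M.1.injective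
          rw [h, Equiv.apply_symm_apply, (m2 _).1 v.2, neg_smul, one_smul, neg_neg]
        · intro v
          exact Subtype.ext (M.1.symm_apply_apply _)
        · intro v
          exact Subtype.ext (M.1.apply_symm_apply _)
      rw [Module.natCard_eq_pow_finrank (K := F) (V := e1), Module.natCard_eq_pow_finrank (K := F) (V := e2)] at hcard
      have h3 : finrank F e1 = finrank F e2 := Nat.pow_right_injective (Finite.one_lt_card (α := F)) hcard
      rw [h3] at hsum
      rw [← hsum] at hodd
      exact (Nat.not_odd_iff_even.2 ⟨_, rfl⟩) hodd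
  · obtain ⟨m, hm⟩ := hro
    rw [hm, pow_add, pow_mul, ha2, one_pow, one_mul, pow_one] at har
    exact har

/-- no invertible skew map in odd dimension -/
theorem odd_skew {U : Type*} [AddCommGroup U] [Module F U] [FiniteDimensional F U] (h2 : (2 : F) ≠ 0)
    (hodd : Odd (finrank F U)) (B : LinearMap.BilinForm F U) (hB : B.Nondegenerate) {T : U →ₗ[F] U}
    (hs : ∀ v w, B (T v) w = -B (T w) v) (hsym : ∀ v w, B v w = B w v) (hinj : ∀ v, T v = 0 → v = 0) : False := by
  classical
  let b := finBasis F U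
  let G := LinearMap.BilinForm.toMatrix b B
  let A := LinearMap.toMatrix b b T
  have h1 : Aᵀ * G = -(G * A) := by
    have e1 : (B.comp T LinearMap.id) = (-1 : F) • (B.comp LinearMap.id T) := by
      apply LinearMap.ext
      intro v
      apply LinearMap.ext
      intro w
      change B (T v) w = (-1 : F) * B v (T w)
      rw [hs, hsym (T w) v, neg_one_mul]
    have e2 := congrArg (LinearMap.BilinForm.toMatrix b) e1
    rw [map_smul, neg_smul, one_smul, LinearMap.BilinForm.toMatrix_comp b b, LinearMap.BilinForm.toMatrix_comp b b, LinearMap.toMatrix_id,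
      Matrix.transpose_one, Matrix.mul_one, Matrix.one_mul] at e2
    exact e2
  have h3 := congrArg Matrix.det h1
  rw [Matrix.det_mul, Matrix.det_transpose, Matrix.det_neg, Matrix.det_mul, Fintype.card_fin, hodd.neg_one_pow] at h3
  have hG : G.det ≠ 0 := (LinearMap.BilinForm.nondegenerate_iff_det_ne_zero b).1 hB
  have hA : A.det ≠ 0 := by
    have h4 : LinearMap.det T ≠ 0 := by
      have h5 : LinearMap.ker T = ⊥ := by
        rw [Submodule.eq_bot_iff]
        exact fun v hv => hinj v hv
      have h6 : IsUnit T := (LinearMap.isUnit_iff_ker_eq_bot T).2 h5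
      exact (LinearMap.isUnit_det T h6).ne_zero
    rwa [← LinearMap.det_toMatrix b] at h4
  have h4 : 2 * (A.det * G.det) = 0 := by linear_combination h3
  rcases mul_eq_zero.1 h4 with h5 | h5
  · exact h2 h5
  · exact mul_ne_zero hA hG h5

end Cfsg.Agent.H205.RC
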