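import Cfsg.Agent.H205.RC.Base

/-!
# S3510, row F, box F5 (helper205): unipotent isometries of small spaces

`A` has dimension at most four, `B` is a nondegenerate symmetric form, `1 + T` an isometry, `T` nilpotent.

* `rank_two` : `T² = 0 ≠ T` implies `dim A = 4`, `rank T = 2`;
* `rank_one` : `T² ≠ 0` implies `T³ = 0`, `rank T² = 1`.
-/

set_option autoImplicit false
set_option linter.unusedSectionVars false

namespace Cfsg.Agent.H205.RC

open Module

variable {F A : Type*} [Field F] [AddCommGroup A] [Module F A] [FiniteDimensional F A]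

/-- a map `K` with alternating form `B(Kx, y)` has rank at least two -/
theorem two_le_rank {B : LinearMap.BilinForm F A} (hB : ∀ x, (∀ y, B x y = 0) → x = 0) {K : A →ₗ[F] A}
    (halt : ∀ x, B (K x) x = 0) (hK : K ≠ 0) : 2 ≤ finrank F (LinearMap.range K) := by
  obtain ⟨x, hx⟩ : ∃ x, K x ≠ 0 := by
    by_contra hcon
    push Not at hcon
    exact hK (LinearMap.ext hcon)
  obtain ⟨y, hy⟩ : ∃ y, B (K x) y ≠ 0 := by
    by_contra hcon
    push Not at hcon
    exact hx (hB _ hcon)
  have hpol : B (K x) y = -B (K y) x := by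
    have h1 := halt (x + y)
    simp only [map_add, LinearMap.add_apply, halt] at h1
    linear_combination h1
  have hli : LinearIndependent F ![K x, K y] := by
    rw [LinearIndependent.pair_iff]
    intro a b hab
    have hb : b = 0 := by
      have h1 : B (a • K x + b • K y) x = 0 := by rw [hab, map_zero]; rfl
      rw [map_add, LinearMap.add_apply, map_smul, map_smul, LinearMap.smul_apply, LinearMap.smul_apply, halt,
        smul_zero, zero_add, smul_eq_mul] at h1
      rcases mul_eq_zero.1 h1 with h2 | h2
      · exact h2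
      · rw [h2, neg_zero] at hpol
        exact absurd hpol hy
    subst hb
    rw [zero_smul, add_zero] at hab
    exact ⟨(smul_eq_zero.1 hab).resolve_right hx, rfl⟩
  have h1 : Submodule.span F (Set.range ![K x, K y]) ≤ LinearMap.range K := by
    rw [Submodule.span_le]
    rintro _ ⟨i, rfl⟩
    fin_cases i
    · exact ⟨x, rfl⟩
    · exact ⟨y, rfl⟩
  have h2 : finrank F (Submodule.span F (Set.range ![K x, K y])) = 2 := finrank_span_eq_card hli
  rw [← h2]
  exact Submodule.finrank_mono h1

/-- the ranks of the powers of `T` -/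
theorem rank_step {T : A →ₗ[F] A} {j k : ℕ} (hjk : j ≤ k) (h : T ^ (k + 1) = 0) :
    finrank F (LinearMap.range (T ^ (j + 1))) + finrank F (LinearMap.range (T ^ k)) ≤
      finrank F (LinearMap.range (T ^ j)) := by
  let R := LinearMap.range (T ^ j)
  have h1 := LinearMap.finrank_range_add_finrank_ker (T.domRestrict R)
  have h2 : LinearMap.range (T.domRestrict R) = LinearMap.range (T ^ (j + 1)) := by
    rw [pow_succ']
    ext v
    constructor
    · rintro ⟨⟨_, ⟨w, rfl⟩⟩, rfl⟩
      exact ⟨w, rfl⟩
    · rintro ⟨w, rfl⟩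
      exact ⟨⟨(T ^ j) w, ⟨w, rfl⟩⟩, rfl⟩
  have h3 : finrank F (LinearMap.range (T ^ k)) ≤ finrank F (LinearMap.ker (T.domRestrict R)) := by
    have h4 : ∀ v ∈ LinearMap.range (T ^ k), v ∈ R := by
      rintro _ ⟨w, rfl⟩
      refine ⟨(T ^ (k - j)) w, ?_⟩
      rw [← Module.End.mul_apply, ← pow_add, Nat.add_sub_cancel' hjk]
    have h5 : ∀ v ∈ LinearMap.range (T ^ k), T v = 0 := by
      rintro _ ⟨w, rfl⟩
      rw [← Module.End.mul_apply, ← pow_succ', h]
      rfl
    let f : LinearMap.range (T ^ k) →ₗ[F] LinearMap.ker (T.domRestrict R) :=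
      { toFun := fun v => ⟨⟨v.1, h4 v.1 v.2⟩, h5 v.1 v.2⟩
        map_add' := fun _ _ => rfl
        map_smul' := fun _ _ => rfl }
    refine LinearMap.finrank_le_finrank_of_injective (f := f) ?_
    intro v w hvw
    exact Subtype.ext (congrArg (fun z => ((z : LinearMap.ker (T.domRestrict R)) : R).1) hvw)
  rw [h2] at h1
  have h6 : finrank F R = finrank F (LinearMap.range (T ^ j)) := rfl
  rw [h6] at h1
  rw [← h1]
  exact Nat.add_le_add_left h3 _

section form

variable {B : LinearMap.BilinForm F A} {T : A →ₗ[F] A}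

theorem rank_two (h2 : (2 : F) ≠ 0) (hsym : ∀ x y, B x y = B y x) (hB : ∀ x, (∀ y, B x y = 0) → x = 0)
    (hiso : ∀ x y, B (T x) y + B x (T y) + B (T x) (T y) = 0) (h4 : finrank F A ≤ 4)
    (hT2 : ∀ x, T (T x) = 0) (hT : T ≠ 0) : finrank F A = 4 ∧ finrank F (LinearMap.range T) = 2 := by
  have hsk : ∀ x y, B (T x) y = -B x (T y) := by
    intro x y
    have e1 := hiso x y
    have e2 := hiso x (T y)
    rw [hT2, map_zero, map_zero, add_zero, add_zero] at e2
    linear_combination e1 - e2
  have halt : ∀ x, B (T x) x = 0 := by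
    intro x
    have h3 := hsk x x
    rw [hsym x (T x)] at h3
    have h5 : 2 * B (T x) x = 0 := by linear_combination h3
    exact (mul_eq_zero.1 h5).resolve_left h2
  have h5 := two_le_rank hB halt hT
  have hTT : T ^ (1 + 1) = 0 := by
    ext x
    rw [pow_succ, pow_one]
    exact hT2 x
  have h6 := rank_step (T := T) (j := 0) (k := 1) (by norm_num) hTT
  have h7 : finrank F (LinearMap.range (T ^ 0)) = finrank F A := by
    rw [pow_zero, Module.End.one_eq_id, LinearMap.range_id, finrank_top]
  rw [h7, zero_add, pow_one] at h6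
  omega

theorem rank_one (h2 : (2 : F) ≠ 0) (hsym : ∀ x y, B x y = B y x) (hB : ∀ x, (∀ y, B x y = 0) → x = 0)
    (hiso : ∀ x y, B (T x) y + B x (T y) + B (T x) (T y) = 0) (h4 : finrank F A ≤ 4)
    (hnil : IsNilpotent T) (hT2 : T ^ 2 ≠ 0) : T ^ 3 = 0 ∧ finrank F (LinearMap.range (T ^ 2)) = 1 := by
  have hT4 : T ^ 4 = 0 := by
    obtain ⟨m, hm⟩ := hnil
    have h5 : LinearMap.ker (T ^ m) ≤ LinearMap.ker (T ^ finrank F A) := Module.End.ker_pow_le_ker_pow_finrank T m
    rw [hm, LinearMap.ker_zero, top_le_iff, LinearMap.ker_eq_top] at h5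
    exact pow_eq_zero_of_le h4 h5
  have h7 : finrank F (LinearMap.range (T ^ 0)) = finrank F A := by
    rw [pow_zero, Module.End.one_eq_id, LinearMap.range_id, finrank_top]
  have hT3 : T ^ 3 = 0 := by
    by_contra hT3
    have hz : ∀ x, T (T (T (T x))) = 0 := fun x => LinearMap.congr_fun hT4 x
    have halt : ∀ x, B ((T ^ 3) x) x = 0 := by
      intro x
      have e := fun y z => hiso y z
      have b13 : ∀ x y, B (T x) (T (T (T y))) = 0 := by
        intro x y
        have h := hiso x (T (T (T y)))
        rw [hz, map_zero, map_zero, add_zero, add_zero] at h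
        exact h
      have b22 : ∀ x y, B (T (T x)) (T (T y)) = 0 := by
        intro x y
        have h := hiso (T x) (T (T y))
        rw [b13, b13, add_zero, add_zero] at h
        exact h
      have b12 : ∀ x y, B (T x) (T (T y)) = -B x (T (T (T y))) := by
        intro x y
        have h := hiso x (T (T y))
        rw [b13, add_zero] at h
        linear_combination h
      have b21 : ∀ x y, B (T (T x)) (T y) = B x (T (T (T y))) := by
        intro x y
        have h := hiso (T x) (T y)
        rw [b22, b12, add_zero] at h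
        linear_combination h
      have b31 : ∀ x y, B (T (T (T x))) (T y) = 0 := by
        intro x y
        have h := hiso (T (T x)) (T y)
        rw [b22, b22 (T x) y, add_zero, add_zero] at h
        exact h
      have b30 : ∀ x y, B (T (T (T x))) y = -B x (T (T (T y))) := by
        intro x y
        have h := hiso (T (T x)) y
        rw [b21, b31, add_zero] at h
        linear_combination h
      have h3 := b30 x x
      rw [hsym x] at h3
      have h5 : 2 * B (T (T (T x))) x = 0 := by linear_combination h3
      exact (mul_eq_zero.1 h5).resolve_left h2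
    have h5 := two_le_rank hB halt hT3
    have s0 : finrank F (LinearMap.range (T ^ 1)) + finrank F (LinearMap.range (T ^ 3)) ≤
      finrank F (LinearMap.range (T ^ 0)) := rank_step (T := T) (j := 0) (k := 3) (by norm_num) hT4
    have s1 : finrank F (LinearMap.range (T ^ 2)) + finrank F (LinearMap.range (T ^ 3)) ≤
      finrank F (LinearMap.range (T ^ 1)) := rank_step (T := T) (j := 1) (k := 3) (by norm_num) hT4
    have s2 : finrank F (LinearMap.range (T ^ 3)) + finrank F (LinearMap.range (T ^ 3)) ≤
      finrank F (LinearMap.range (T ^ 2)) := rank_step (T := T) (j := 2) (k := 3) (by norm_num) hT4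
    rw [h7] at s0
    omega
  refine ⟨hT3, ?_⟩
  have s0 : finrank F (LinearMap.range (T ^ 1)) + finrank F (LinearMap.range (T ^ 2)) ≤
    finrank F (LinearMap.range (T ^ 0)) := rank_step (T := T) (j := 0) (k := 2) (by norm_num) hT3
  have s1 : finrank F (LinearMap.range (T ^ 2)) + finrank F (LinearMap.range (T ^ 2)) ≤
    finrank F (LinearMap.range (T ^ 1)) := rank_step (T := T) (j := 1) (k := 2) (by norm_num) hT3
  rw [h7] at s0
  have h5 : finrank F (LinearMap.range (T ^ 2)) ≠ 0 := by
    intro h0
    rw [Submodule.finrank_eq_zero, LinearMap.range_eq_bot] at h0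
    exact hT2 h0
  omega

end form

end Cfsg.Agent.H205.RC
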