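import Cfsg.Agent.H205.RC.Nil

/-!
# S3510, row F, box F5 (helper205): the invariant 3-space

`N = u - 1`, `T² ≠ 0 = T³` on the invariant nondegenerate `W`, `rank T² = 1`.
-/

set_option autoImplicit false
set_option linter.unusedSectionVars false

namespace Cfsg.Agent.H205.RC

open Cfsg QuadraticMap Module
open Cfsg.Agent.LieClassical.OrthCore Cfsg.Agent.LieClassical.OrthTrans

variable {F V : Type*} [Field F] [AddCommGroup V] [Module F V] [FiniteDimensional F V] {Q : QuadraticForm F V}

/-- nondegenerate subspaces -/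
def NdOn (Q : QuadraticForm F V) (W : Submodule F V) : Prop := ∀ x ∈ W, (∀ y ∈ W, polar Q x y = 0) → x = 0

theorem NdOn.nondeg {W : Submodule F V} (h : NdOn Q W) : Nondeg (Q.comp W.subtype) := by
  intro x hx
  apply Subtype.ext
  exact h x x.2 fun y hy => hx ⟨y, hy⟩

theorem NdOn.of_compl (hQ : Nondeg Q) {W W' : Submodule F V} (hc : Codisjoint W W')
    (ho : ∀ x ∈ W, ∀ y ∈ W', polar Q x y = 0) : NdOn Q W := by
  intro x hx h
  apply hQ
  intro y
  have hy : y ∈ W ⊔ W' := by rw [hc.eq_top]; trivial
  obtain ⟨a, ha, b, hb, rfl⟩ := Submodule.mem_sup.1 hy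
  rw [polar_add_right, h a ha, ho x hx b hb, add_zero]

/-- averaging -/
theorem avg_step {Y N : V →ₗ[F] V} {r : ℕ} (hr : (r : F) ≠ 0) (hY : Y ^ r = 1) (hYN : ∀ v, Y (N v) = N (Y v)) {e a : V}
    (he : Y e = e) (ha : N (N a) = e) {W : Submodule F V} (hW : ∀ v ∈ W, Y v ∈ W) (haW : a ∈ W) :
    ∃ a' ∈ W, N (N a') = e ∧ Y a' = a' ∧
      ∀ (Z : V →ₗ[F] V) (c : F), (∀ v, Z (Y v) = Y (Z v)) → Z a = c • a → Z a' = c • a' := by
  have hYk : ∀ k : ℕ, (Y ^ k) a ∈ W := by
    intro k
    induction k with
    | zero => exact haW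
    | succ k ih => rw [pow_succ', Module.End.mul_apply]; exact hW _ ih
  have hNk : ∀ k : ℕ, N (N ((Y ^ k) a)) = e := by
    intro k
    induction k with
    | zero => exact ha
    | succ k ih => rw [pow_succ', Module.End.mul_apply, ← hYN, ← hYN, ih, he]
  refine ⟨(r : F)⁻¹ • ∑ k ∈ Finset.range r, (Y ^ k) a, W.smul_mem _ (W.sum_mem fun k _ => hYk k), ?_, ?_, ?_⟩
  · rw [map_smul, map_smul, map_sum, map_sum, Finset.sum_congr rfl fun k _ => hNk k, Finset.sum_const,
      Finset.card_range, ← Nat.cast_smul_eq_nsmul F, inv_smul_smul₀ hr]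
  · rw [map_smul, map_sum]
    congr 1
    have h1 : ∀ k, Y ((Y ^ k) a) = (Y ^ (k + 1)) a := fun k => by rw [pow_succ', Module.End.mul_apply]
    rw [Finset.sum_congr rfl fun k _ => h1 k]
    have h2 := Finset.sum_range_succ' (fun k => (Y ^ k) a) r
    rw [Finset.sum_range_succ (fun k => (Y ^ k) a) r, hY, pow_zero] at h2
    exact (add_right_cancel h2).symm
  · intro Z c hZY hZa
    have h1 : ∀ k : ℕ, Z ((Y ^ k) a) = c • (Y ^ k) a := by
      intro k
      induction k with
      | zero => rw [pow_zero]; exact hZa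
      | succ k ih => rw [pow_succ', Module.End.mul_apply, hZY, ih, map_smul]
    rw [map_smul, map_sum, Finset.sum_congr rfl fun k _ => h1 k, ← Finset.smul_sum, smul_comm]

variable {u : V ≃ₗ[F] V}

/-- `u - 1` -/
def nn (u : V ≃ₗ[F] V) : V →ₗ[F] V := (u : V →ₗ[F] V) - LinearMap.id

theorem nn_apply (v : V) : nn u v = u v - v := rfl

theorem nn_iso (hu : ∀ v, Q (u v) = Q v) (x y : V) :
    polar Q (nn u x) y + polar Q x (nn u y) + polar Q (nn u x) (nn u y) = 0 := by
  have h := polar_iso hu x y
  have e1 : u x = nn u x + x := by rw [nn_apply]; abel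
  have e2 : u y = nn u y + y := by rw [nn_apply]; abel
  rw [e1, e2, polar_add_left, polar_add_right, polar_add_right] at h
  linear_combination h

theorem two_mul_Q (x : V) : polar Q x x = 2 * Q x := by
  rw [polar, ← two_smul F x, QuadraticMap.map_smul, smul_eq_mul]
  ring

/-- **(b) from a common eigenvector** -/
theorem three_of_vec (h2 : (2 : F) ≠ 0) (hu : ∀ v, Q (u v) = Q v) {a : V} (h3 : nn u (nn u (nn u a)) = 0)
    (hβ : polar Q (nn u (nn u a)) a ≠ 0) {ι : Type*} {X : ι → V ≃ₗ[F] V} (hcu : ∀ i v, X i (u v) = u (X i v))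
    (hX : ∀ i, X i a = a ∨ X i a = -a) :
    ∃ (e f b : V) (h : Hyp Q e f) (heb : polar Q e b = 0), polar Q f b = 0 ∧ Q b ≠ 0 ∧
      (∀ i, (∀ v ∈ Submodule.span F {e, f, b}, X i v = v) ∨ ∀ v ∈ Submodule.span F {e, f, b}, X i v = -v) ∧
      ∀ v ∈ Submodule.span F {e, f, b}, u v = siegel Q e b h.left heb v := by
  set N := nn u with hN
  set e := N (N a) with he
  set β := polar Q e a with hβd
  have iso := nn_iso (u := u) hu
  rw [← hN] at iso
  have b12 : polar Q (N a) e = 0 := by
    have h := iso a e
    rw [he, h3, polar_zero_right, polar_zero_right, add_zero, add_zero] at h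
    exact h
  have b22 : polar Q e e = 0 := by
    have h := iso (N a) e
    rw [he, h3, polar_zero_right, polar_zero_right, add_zero, add_zero] at h
    exact h
  have b11 : polar Q (N a) (N a) = -β := by
    have h := iso a (N a)
    rw [← he, b12, add_zero, polar_comm Q a e] at h
    linear_combination h
  have b10 : 2 * polar Q (N a) a = β := by
    have h := iso a a
    rw [b11, polar_comm Q a (N a)] at h
    linear_combination h
  have hQe : Q e = 0 := by
    have h := two_mul_Q (Q := Q) e
    rw [b22] at h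
    exact (mul_eq_zero.1 h.symm).resolve_left h2
  have hQN : 2 * Q (N a) = -β := by rw [← two_mul_Q, b11]
  have hae : polar Q a e = β := polar_comm Q a e
  have hNe : N e = 0 := h3
  have hu' : ∀ v, u v = v + N v := fun v => by rw [hN, nn_apply]; abel
  set f := β⁻¹ • (a - (Q a * β⁻¹) • e) with hf
  set b := β⁻¹ • (N a - (2⁻¹ : F) • e) with hb
  have hef : polar Q e f = 1 := by
    rw [hf, polar_smul_right, polar_sub_right, polar_smul_right, b22, smul_zero, sub_zero, smul_eq_mul, ← hβd,
      inv_mul_cancel₀ hβ]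
  have hQf : Q f = 0 := by
    rw [hf, QuadraticMap.map_smul, sub_eq_add_neg, ← neg_smul]
    have h : Q (a + (-(Q a * β⁻¹)) • e) = 0 := by
      have h1 : Q (a + (-(Q a * β⁻¹)) • e) = Q a + Q ((-(Q a * β⁻¹)) • e) + polar Q a ((-(Q a * β⁻¹)) • e) := by
        rw [polar]; ring
      rw [h1, QuadraticMap.map_smul, hQe, smul_zero, add_zero, polar_smul_right, hae, smul_eq_mul]
      field_simp
      ring
    rw [h, smul_zero]
  have heb : polar Q e b = 0 := by
    rw [hb, polar_smul_right, polar_sub_right, polar_smul_right, b22, polar_comm Q e (N a), b12]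
    simp
  have hfb : polar Q f b = 0 := by
    rw [hf, hb, polar_smul_left, polar_smul_right, polar_sub_left, polar_sub_right, polar_sub_right,
      polar_smul_left, polar_smul_right, polar_smul_right, polar_smul_left, b22, polar_comm Q e (N a), b12, hae,
      polar_comm Q a (N a)]
    simp only [smul_eq_mul]
    have h : polar Q (N a) a = β * 2⁻¹ := by
      rw [← b10]; field_simp
    rw [h]
    ring
  have hQb : Q b = -(2⁻¹ * β⁻¹) := by
    have h1 : Q (N a - (2⁻¹ : F) • e) = Q (N a) := by
      have h : Q (N a + (-(2⁻¹ : F)) • e) = Q (N a) + Q ((-(2⁻¹ : F)) • e) + polar Q (N a) ((-(2⁻¹ : F)) • e) := by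
        rw [polar]; ring
      rw [sub_eq_add_neg, ← neg_smul, h, QuadraticMap.map_smul, hQe, smul_zero, add_zero, polar_smul_right, b12,
        smul_zero, add_zero]
    have h3 : Q (N a) = -(β * 2⁻¹) := by
      have h4 : 2 * Q (N a) = 2 * -(β * 2⁻¹) := by
        rw [hQN]; field_simp
      exact mul_left_cancel₀ h2 h4
    rw [hb, QuadraticMap.map_smul, h1, h3, smul_eq_mul]
    field_simp
  refine ⟨e, f, b, ⟨hQe, hQf, hef⟩, heb, hfb, ?_, ?_, ?_⟩
  · rw [hQb]
    exact neg_ne_zero.2 (mul_ne_zero (inv_ne_zero h2) (inv_ne_zero hβ))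
  · intro i
    have hXN : ∀ v, X i (N v) = N (X i v) := by
      intro v
      rw [hN, nn_apply, nn_apply, map_sub, hcu]
    have key : ∀ ε : F, X i a = ε • a → ∀ v ∈ Submodule.span F {e, f, b}, X i v = ε • v := by
      intro ε hε v hv
      have hXNa : X i (N a) = ε • N a := by rw [hXN, hε, map_smul]
      have hXe : X i e = ε • e := by rw [he, hXN, hXNa, map_smul]
      have hle : Submodule.span F {e, f, b} ≤ LinearMap.ker ((X i : V →ₗ[F] V) - ε • LinearMap.id) := by
        rw [Submodule.span_le]
        rintro x (rfl | rfl | rfl)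
        · show X i e - ε • e = 0
          rw [hXe, sub_self]
        · show X i f - ε • f = 0
          rw [hf, map_smul, map_sub, map_smul, hε, hXe]
          module
        · show X i b - ε • b = 0
          rw [hb, map_smul, map_sub, map_smul, hXNa, hXe]
          module
      have h := hle hv
      exact sub_eq_zero.1 h
    rcases hX i with h | h
    · left
      intro v hv
      rw [key 1 (by rw [h, one_smul]) v hv, one_smul]
    · right
      intro v hv
      rw [key (-1) (by rw [h, neg_smul, one_smul]) v hv, neg_smul, one_smul]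
  · intro v hv
    have hle : Submodule.span F {e, f, b} ≤ LinearMap.ker ((u : V →ₗ[F] V) - (siegel Q e b hQe heb : V →ₗ[F] V)) := by
      rw [Submodule.span_le]
      have hNb : N b = β⁻¹ • e := by
        rw [hb, map_smul, map_sub, map_smul, hNe, smul_zero, sub_zero]
      have hNf : N f = b + (2⁻¹ * β⁻¹) • e := by
        rw [hf, hb, map_smul, map_sub, map_smul, hNe, smul_zero, sub_zero]
        module
      rintro x (rfl | rfl | rfl)
      · show u e - siegel Q e b hQe heb e = 0
        rw [siegel_apply, hu', hNe, b22, polar_comm Q b e, heb]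
        simp
      · show u f - siegel Q e b hQe heb f = 0
        rw [siegel_apply, hu', hNf, hef, polar_comm Q b f, hfb, hQb]
        module
      · show u b - siegel Q e b hQe heb b = 0
        rw [siegel_apply, hu', hNb, heb, two_mul_Q, hQb]
        have h : 2 * -(2⁻¹ * β⁻¹) = -β⁻¹ := by field_simp
        rw [h]
        module
    have h := hle hv
    exact sub_eq_zero.1 h

end Cfsg.Agent.H205.RC
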