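import Cfsg.Agent.H205.RC.Three
import Cfsg.Agent.LieClassical.OrthFinite

/-!
# S3510, row F, box F5 (helper205): an element of order `p` in odd dimension
-/

set_option autoImplicit false
set_option linter.unusedSectionVars false

namespace Cfsg.Agent.H205.RC

open Cfsg QuadraticMap Module
open Cfsg.Agent.LieClassical.OrthCore Cfsg.Agent.LieClassical.OrthTrans

variable {F V : Type*} [Field F] [AddCommGroup V] [Module F V] [FiniteDimensional F V] {Q : QuadraticForm F V}

section split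

variable {s : V ≃ₗ[F] V}

theorem mem_fx {v : V} : v ∈ LinearMap.ker (nn s) ↔ s v = v := by
  show nn s v = 0 ↔ _
  rw [nn_apply, sub_eq_zero]

theorem fx_cm_perp (hs : ∀ v, Q (s v) = Q v) :
    ∀ x ∈ LinearMap.ker (nn s), ∀ y ∈ LinearMap.range (nn s), polar Q x y = 0 := by
  rintro x hx _ ⟨y, rfl⟩
  rw [mem_fx] at hx
  have h := polar_iso hs x y
  rw [hx] at h
  rw [nn_apply, polar_sub_right, h, sub_self]

theorem fx_cm_compl {r : ℕ} (hr : (r : F) ≠ 0) (hsr : s ^ r = 1) :
    IsCompl (LinearMap.ker (nn s)) (LinearMap.range (nn s)) := by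
  have hd : Disjoint (LinearMap.ker (nn s)) (LinearMap.range (nn s)) := by
    rw [Submodule.disjoint_def]
    rintro _ hx ⟨y, rfl⟩
    rw [mem_fx] at hx
    have h1 : ∀ k : ℕ, (s ^ k) (nn s y) = nn s y := by
      intro k
      induction k with
      | zero => rfl
      | succ k ih =>
        rw [pow_succ]
        change (s ^ k) (s (nn s y)) = _
        rw [hx, ih]
    have h2 : ∑ k ∈ Finset.range r, (s ^ k) (nn s y) = 0 := by
      have h3 : ∀ k, (s ^ k) (nn s y) = (s ^ (k + 1)) y - (s ^ k) y := by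
        intro k
        rw [nn_apply, map_sub, pow_succ]
        rfl
      rw [Finset.sum_congr rfl fun k _ => h3 k, Finset.sum_range_sub (fun k => (s ^ k) y), hsr, pow_zero, sub_self]
    rw [Finset.sum_congr rfl fun k _ => h1 k, Finset.sum_const, Finset.card_range, ← Nat.cast_smul_eq_nsmul F] at h2
    exact (smul_eq_zero.1 h2).resolve_left hr
  refine ⟨hd, ?_⟩
  rw [codisjoint_iff]
  refine Submodule.eq_top_of_disjoint _ _ ?_ hd
  rw [add_comm, LinearMap.finrank_range_add_finrank_ker]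

theorem fx_ne_bot (hQ : Nondeg Q) (h2 : (2 : F) ≠ 0) (hodd : Odd (finrank F V)) (hs : ∀ v, Q (s v) = Q v) {r : ℕ}
    (hr : r.Prime) (hsr : s ^ r = 1) (hneg : ∃ v, s v ≠ -v) : LinearMap.ker (nn s) ≠ ⊥ := by
  intro hb
  have hinj : ∀ v, s v = v → v = 0 := by
    intro v hv
    have h1 : v ∈ LinearMap.ker (nn s) := mem_fx.2 hv
    rw [hb] at h1
    exact h1
  rcases hr.eq_two_or_odd' with hr2 | hro
  · subst hr2
    obtain ⟨v, hv⟩ := hneg
    apply hv
    have h1 : s (s v + v) = s v + v := by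
      have h3 : s (s v) = v := by
        have h4 : (s ^ 2) v = v := by rw [hsr]; rfl
        rwa [pow_two] at h4
      rw [map_add, h3, add_comm]
    exact eq_neg_of_add_eq_zero_left (hinj _ h1)
  · have hinv : ∀ v w, polar Q (s.symm v) w = polar Q v (s w) := by
      intro v w
      have h1 := polar_iso hs (s.symm v) w
      rw [LinearEquiv.apply_symm_apply] at h1
      exact h1.symm
    refine odd_skew (T := (s : V →ₗ[F] V) - (s.symm : V →ₗ[F] V)) h2 hodd (polarBilin Q) ?_ ?_ ?_ ?_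
    · refine ⟨fun x hx => hQ x hx, fun x hx => hQ x fun y => ?_⟩
      rw [polar_comm]
      exact hx y
    · intro v w
      change polar Q (s v - s.symm v) w = -polar Q (s w - s.symm w) v
      rw [polar_sub_left, polar_sub_left, hinv, hinv, polar_comm Q (s w) v, polar_comm Q w (s v)]
      ring
    · intro v w
      exact polar_comm Q v w
    · intro v hv
      have hv' : s v = s.symm v := sub_eq_zero.1 hv
      have h3 : s (s v) = v := by rw [hv', LinearEquiv.apply_symm_apply]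
      have h4 : ∀ m : ℕ, (s ^ (2 * m)) v = v := by
        intro m
        induction m with
        | zero => rfl
        | succ m ih =>
          rw [Nat.mul_succ, pow_add]
          change (s ^ (2 * m)) ((s ^ 2) v) = v
          have h5 : (s ^ 2) v = v := by rw [pow_two]; exact h3
          rw [h5, ih]
      obtain ⟨m, hm⟩ := hro
      apply hinj
      have h5 : (s ^ r) v = v := by rw [hsr]; rfl
      rw [hm, pow_succ'] at h5
      change s ((s ^ (2 * m)) v) = v at h5
      rwa [h4] at h5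

end split

section core

variable {u : V ≃ₗ[F] V}

theorem nn_mem {W : Submodule F V} (hW : ∀ v ∈ W, u v ∈ W) : ∀ v ∈ W, nn u v ∈ W := fun v hv => by
  rw [nn_apply]
  exact W.sub_mem (hW v hv) hv

/-- the restriction of the polar form -/
noncomputable def pb (Q : QuadraticForm F V) (W : Submodule F V) : LinearMap.BilinForm F W :=
  LinearMap.BilinForm.restrict (polarBilin Q) W

theorem pb_apply (W : Submodule F V) (x y : W) : pb Q W x y = polar Q (x : V) (y : V) := rfl

theorem pb_nondeg {W : Submodule F V} (h : NdOn Q W) : ∀ x : W, (∀ y, pb Q W x y = 0) → x = 0 := by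
  intro x hx
  exact Subtype.ext (h x x.2 fun y hy => hx ⟨y, hy⟩)

theorem pb_sym (W : Submodule F V) (x y : W) : pb Q W x y = pb Q W y x := polar_comm Q _ _

/-- the restriction of `u - 1` -/
noncomputable def rs (u : V ≃ₗ[F] V) {W : Submodule F V} (hW : ∀ v ∈ W, u v ∈ W) : W →ₗ[F] W :=
  (nn u).restrict (nn_mem hW)

theorem rs_coe {W : Submodule F V} (hW : ∀ v ∈ W, u v ∈ W) (x : W) : ((rs u hW x : W) : V) = nn u x := rfl

theorem rs_pow {W : Submodule F V} (hW : ∀ v ∈ W, u v ∈ W) (k : ℕ) (x : W) :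
    (((rs u hW ^ k) x : W) : V) = (nn u ^ k) x := by
  induction k generalizing x with
  | zero => rfl
  | succ k ih =>
    rw [pow_succ, pow_succ, Module.End.mul_apply, Module.End.mul_apply, ih, rs_coe]

theorem nn_nil {p : ℕ} [Fact p.Prime] [CharP F p] (hup : u ^ p = 1) : nn u ^ p = 0 := by
  rcases subsingleton_or_nontrivial V with hs | hn
  · ext v
    exact Subsingleton.elim _ _
  · have : CharP (Module.End F V) p := charP_of_injective_algebraMap (FaithfulSMul.algebraMap_injective F (Module.End F V)) p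
    have h1 : nn u = (u : V →ₗ[F] V) - (1 : Module.End F V) := rfl
    have h2 : ∀ k : ℕ, (u : V →ₗ[F] V) ^ k = ((u ^ k : V ≃ₗ[F] V) : V →ₗ[F] V) := by
      intro k
      induction k with
      | zero => rfl
      | succ k ih => rw [pow_succ, pow_succ, ih]; rfl
    rw [h1, sub_pow_char_of_commute p (Commute.one_right _), h2, hup, one_pow]
    exact sub_self _

theorem rs_iso {W : Submodule F V} (hW : ∀ v ∈ W, u v ∈ W) (hu : ∀ v, Q (u v) = Q v) (x y : W) :
    pb Q W (rs u hW x) y + pb Q W x (rs u hW y) + pb Q W (rs u hW x) (rs u hW y) = 0 :=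
  nn_iso hu (x : V) (y : V)

theorem smul_pow_lin (X : V ≃ₗ[F] V) (c : F) (k : ℕ) : (c • (X : V →ₗ[F] V)) ^ k = c ^ k • ((X ^ k : V ≃ₗ[F] V) : V →ₗ[F] V) := by
  induction k with
  | zero => rw [pow_zero, pow_zero, pow_zero, one_smul]; rfl
  | succ k ih =>
    rw [pow_succ, ih, pow_succ, pow_succ]
    ext v
    change (c ^ k) • (X ^ k) (c • X v) = (c ^ k * c) • (X ^ k) (X v)
    rw [map_smul, smul_smul]

/-- **(b)** -/
theorem case_b (h2 : (2 : F) ≠ 0) (hu : ∀ v, Q (u v) = Q v) {p : ℕ} [Fact p.Prime] [CharP F p] (hup : u ^ p = 1)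
    {ι : Type*} [Finite ι] {X : ι → V ≃ₗ[F] V} {r : ι → ℕ} (hX : ∀ i v, Q (X i v) = Q v)
    (hr : ∀ i, ((r i : ℕ) : F) ≠ 0) (hpow : ∀ i, X i ^ r i = 1) (hc : ∀ i j v, X i (X j v) = X j (X i v))
    (hcu : ∀ i v, X i (u v) = u (X i v)) {W : Submodule F V} (hnd : NdOn Q W) (h4 : finrank F W ≤ 4)
    (hWu : ∀ v ∈ W, u v ∈ W) (hWX : ∀ i, ∀ v ∈ W, X i v ∈ W) {w : V} (hw : w ∈ W) (hw2 : nn u (nn u w) ≠ 0) :
    ∃ (e f b : V) (h : Hyp Q e f) (heb : polar Q e b = 0), polar Q f b = 0 ∧ Q b ≠ 0 ∧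
      (∀ i, (∀ v ∈ Submodule.span F {e, f, b}, X i v = v) ∨ ∀ v ∈ Submodule.span F {e, f, b}, X i v = -v) ∧
      ∀ v ∈ Submodule.span F {e, f, b}, u v = siegel Q e b h.left heb v := by
  classical
  have hT2 : rs u hWu ^ 2 ≠ 0 := by
    intro h0
    apply hw2
    have h1 := rs_pow hWu 2 ⟨w, hw⟩
    rw [h0, pow_two] at h1
    exact h1.symm
  have hnil : IsNilpotent (rs u hWu) := by
    refine ⟨p, LinearMap.ext fun x => Subtype.ext ?_⟩
    rw [rs_pow, nn_nil hup]
    rfl
  obtain ⟨hT3, hr1⟩ := rank_one h2 (pb_sym W) (pb_nondeg hnd) (rs_iso hWu hu) h4 hnil hT2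
  set N := nn u with hN
  have iso := nn_iso (u := u) hu
  rw [← hN] at iso
  have h3 : ∀ v ∈ W, N (N (N v)) = 0 := by
    intro v hv
    have h1 := rs_pow hWu 3 ⟨v, hv⟩
    rw [hT3] at h1
    exact h1.symm
  have hNW : ∀ v ∈ W, N v ∈ W := nn_mem hWu
  set e := N (N w) with he
  have heW : e ∈ W := hNW _ (hNW _ hw)
  -- the line
  have hline : ∀ v ∈ W, ∃ c : F, N (N v) = c • e := by
    intro v hv
    obtain ⟨z, hz0, hz⟩ := finrank_eq_one_iff'.1 hr1
    have m1 : (⟨N (N w), hNW _ (hNW _ hw)⟩ : W) ∈ LinearMap.range (rs u hWu ^ 2) := ⟨⟨w, hw⟩, Subtype.ext (rs_pow hWu 2 _)⟩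
    have m2 : (⟨N (N v), hNW _ (hNW _ hv)⟩ : W) ∈ LinearMap.range (rs u hWu ^ 2) := ⟨⟨v, hv⟩, Subtype.ext (rs_pow hWu 2 _)⟩
    obtain ⟨c1, hc1⟩ := hz ⟨_, m1⟩
    obtain ⟨c2, hc2⟩ := hz ⟨_, m2⟩
    have e1 : c1 • ((z : W) : V) = e := congrArg (fun t => ((t : LinearMap.range (rs u hWu ^ 2)) : W).1) hc1
    have e2 : c2 • ((z : W) : V) = N (N v) := congrArg (fun t => ((t : LinearMap.range (rs u hWu ^ 2)) : W).1) hc2
    have hc10 : c1 ≠ 0 := by
      rintro rfl
      rw [zero_smul] at e1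
      exact hw2 e1.symm
    refine ⟨c2 * c1⁻¹, ?_⟩
    rw [← e1, ← e2, smul_smul, mul_assoc, inv_mul_cancel₀ hc10, mul_one]
  -- the symmetric form `B (N² x, y)`
  have hsymN : ∀ x ∈ W, ∀ y ∈ W, polar Q (N (N x)) y = polar Q x (N (N y)) := by
    have b22 : ∀ x ∈ W, ∀ y ∈ W, polar Q (N (N x)) (N (N y)) = 0 := by
      intro x hx y hy
      have h := iso (N (N x)) (N y)
      rw [h3 x hx, polar_zero_left, polar_zero_left, zero_add, add_zero] at h
      exact h
    have b21 : ∀ x ∈ W, ∀ y ∈ W, polar Q (N (N x)) (N y) = 0 := by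
      intro x hx y hy
      have h := iso (N (N x)) y
      rw [h3 x hx, polar_zero_left, polar_zero_left, zero_add, add_zero] at h
      exact h
    have b12 : ∀ x ∈ W, ∀ y ∈ W, polar Q (N x) (N (N y)) = 0 := by
      intro x hx y hy
      rw [polar_comm]
      exact b21 y hy x hx
    intro x hx y hy
    have h1 := iso (N x) y
    rw [b21 x hx y hy, add_zero] at h1
    have h4 := iso x (N y)
    rw [b12 x hx y hy, add_zero] at h4
    linear_combination h1 - h4
  have hβ : ∀ a ∈ W, N (N a) = e → polar Q e a ≠ 0 := by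
    intro a ha hae h0
    apply hw2
    refine hnd e heW fun y hy => ?_
    rw [← hae, hsymN a ha y hy]
    obtain ⟨c, hc⟩ := hline y hy
    rw [hc, polar_smul_right, polar_comm, h0, smul_zero]
  have hXN : ∀ i v, X i (N v) = N (X i v) := by
    intro i v
    rw [hN, nn_apply, nn_apply, map_sub, hcu]
  have hl : ∀ i, ∃ c : F, X i e = c • e := by
    intro i
    obtain ⟨c, hc'⟩ := hline (X i w) (hWX i w hw)
    refine ⟨c, ?_⟩
    rw [← hc', ← hXN, ← hXN]
  choose lam hlam using hl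
  have hlam2 : ∀ i, lam i * lam i = 1 := by
    intro i
    have h1 := polar_iso (hX i) e w
    rw [hlam, polar_smul_left, he, hsymN w hw (X i w) (hWX i w hw), ← hXN, ← hXN, ← he, hlam, polar_smul_right,
      polar_comm Q w e, smul_eq_mul, smul_eq_mul, ← mul_assoc] at h1
    have h5 := hβ w hw he.symm
    have h6 : (lam i * lam i - 1) * polar Q e w = 0 := by linear_combination h1
    exact sub_eq_zero.1 ((mul_eq_zero.1 h6).resolve_right h5)
  have hlamr : ∀ i, lam i ^ r i = 1 := by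
    intro i
    have h1 : ∀ k : ℕ, (X i ^ k) e = lam i ^ k • e := by
      intro k
      induction k with
      | zero => rw [pow_zero, pow_zero, one_smul]; rfl
      | succ k ih =>
        rw [pow_succ, pow_succ]
        change (X i ^ k) (X i e) = _
        rw [hlam, map_smul, ih, smul_smul, mul_comm]
    have h5 := h1 (r i)
    rw [hpow] at h5
    have h6 : (lam i ^ r i - 1) • e = 0 := by
      rw [sub_smul, one_smul, ← h5]
      exact sub_self _
    exact sub_eq_zero.1 ((smul_eq_zero.1 h6).resolve_right hw2)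
  have key : ∀ S : Finset ι, ∃ a ∈ W, N (N a) = e ∧ ∀ i ∈ S, X i a = lam i • a := by
    intro S
    induction S using Finset.induction_on with
    | empty => exact ⟨w, hw, rfl, fun i hi => absurd hi (Finset.notMem_empty i)⟩
    | insert i S hi ih =>
      obtain ⟨a, haW, hae, ha⟩ := ih
      obtain ⟨a', ha'W, hae', hY, hZ⟩ := avg_step (Y := lam i • (X i : V →ₗ[F] V)) (N := N) (hr i)
        (by rw [smul_pow_lin, hlamr, hpow, one_smul]; rfl)
        (fun v => by
          change lam i • X i (N v) = N (lam i • X i v)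
          rw [hXN, map_smul])
        (e := e) (a := a)
        (by
          change lam i • X i e = e
          rw [hlam, smul_smul, hlam2, one_smul]) hae
        (W := W) (fun v hv => W.smul_mem _ (hWX i v hv)) haW
      refine ⟨a', ha'W, hae', fun j hj => ?_⟩
      rcases Finset.mem_insert.1 hj with rfl | hj
      · have h5 : lam j • X j a' = a' := hY
        have h6 := congrArg (fun t => lam j • t) h5
        rw [smul_smul, hlam2, one_smul] at h6
        exact h6
      · exact hZ (X j : V →ₗ[F] V) (lam j) (fun v => by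
          change X j (lam i • X i v) = lam i • X i (X j v)
          rw [map_smul, hc]) (ha j hj)
  cases nonempty_fintype ι
  obtain ⟨a, haW, hae, ha⟩ := key Finset.univ
  refine three_of_vec h2 hu (a := a) (h3 a haW) (by rw [← hN, hae]; exact hβ a haW hae) hcu fun i => ?_
  rcases mul_self_eq_one_iff.1 (hlam2 i) with h5 | h5
  · left
    rw [ha i (Finset.mem_univ i), h5, one_smul]
  · right
    rw [ha i (Finset.mem_univ i), h5, neg_smul, one_smul]

/-- **(c)** -/
theorem case_c (hQ : Nondeg Q) (h2 : (2 : F) ≠ 0) (hu : ∀ v, Q (u v) = Q v) (hu1 : ∃ v, nn u v ≠ 0)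
    (hN2 : ∀ v, nn u (nn u v) = 0) (hrk : finrank F (LinearMap.range (nn u)) ≤ 2)
    {ι : Type*} {X : ι → V ≃ₗ[F] V} (hcu : ∀ i v, X i (u v) = u (X i v)) :
    ∃ (e w : V) (he : Q e = 0) (hw : Q w = 0) (hew : polar Q e w = 0), e ≠ 0 ∧ (∀ a : F, w ≠ a • e) ∧
      u = siegel Q e w he hew ∧ ∀ i, ∀ v ∈ Submodule.span F {e, w}, X i v ∈ Submodule.span F {e, w} := by
  have iso := nn_iso (u := u) hu
  set N := nn u with hN
  have b11 : ∀ x y, polar Q (N x) (N y) = 0 := by
    intro x y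
    have h := iso x (N y)
    rw [hN2, polar_zero_right, polar_zero_right, add_zero, add_zero] at h
    exact h
  have hsk : ∀ x y, polar Q (N x) y = -polar Q (N y) x := by
    intro x y
    have h := iso x y
    rw [b11, polar_comm Q x (N y)] at h
    linear_combination h
  have halt : ∀ x, polar Q (N x) x = 0 := by
    intro x
    have h := hsk x x
    have h5 : 2 * polar Q (N x) x = 0 := by linear_combination h
    exact (mul_eq_zero.1 h5).resolve_left h2
  have hQN : ∀ x, Q (N x) = 0 := by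
    intro x
    have h := two_mul_Q (Q := Q) (N x)
    rw [b11] at h
    exact (mul_eq_zero.1 h.symm).resolve_left h2
  obtain ⟨a, ha⟩ := hu1
  obtain ⟨b0, hb0⟩ := hQ.exists_polar_ne ha
  set b := (polar Q (N a) b0)⁻¹ • b0 with hb
  have hab : polar Q (N a) b = 1 := by
    rw [hb, polar_smul_right, smul_eq_mul, inv_mul_cancel₀ hb0]
  have hba : polar Q (N b) a = -1 := by rw [hsk, hab]
  have hli : LinearIndependent F ![N a, N b] := by
    rw [LinearIndependent.pair_iff]
    intro c d hcd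
    have h5 : polar Q (c • N a + d • N b) b = 0 := by rw [hcd, polar_zero_left]
    rw [polar_add_left, polar_smul_left, polar_smul_left, hab, halt, smul_zero, add_zero, smul_eq_mul, mul_one] at h5
    have h6 : polar Q (c • N a + d • N b) a = 0 := by rw [hcd, polar_zero_left]
    rw [polar_add_left, polar_smul_left, polar_smul_left, hba, halt, smul_zero, zero_add, smul_eq_mul] at h6
    exact ⟨h5, by linear_combination -h6⟩
  have hle : Submodule.span F {N a, N b} ≤ LinearMap.range N := by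
    rw [Submodule.span_le]
    rintro _ (rfl | rfl)
    · exact ⟨a, rfl⟩
    · exact ⟨b, rfl⟩
  have hrange : Submodule.span F {N a, N b} = LinearMap.range N := by
    apply Submodule.eq_of_le_of_finrank_le hle
    have h5 := finrank_span_eq_card hli
    rw [Matrix.range_cons_cons_empty] at h5
    rw [h5]
    exact hrk
  have hform : ∀ v, N v = polar Q (N a) v • N b - polar Q (N b) v • N a := by
    intro v
    have h5 : N v ∈ Submodule.span F {N a, N b} := by
      rw [hrange]
      exact ⟨v, rfl⟩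
    obtain ⟨c, d, hcd⟩ := Submodule.mem_span_pair.1 h5
    have h6 := hsk v b
    rw [← hcd, polar_add_left, polar_smul_left, polar_smul_left, hab, halt, smul_zero, add_zero, smul_eq_mul,
      mul_one] at h6
    have h7 := hsk v a
    rw [← hcd, polar_add_left, polar_smul_left, polar_smul_left, hba, halt, smul_zero, zero_add, smul_eq_mul] at h7
    have h8 : d = polar Q (N a) v := by linear_combination -h7
    rw [← hcd, h6, ← h8]
    module
  refine ⟨N a, N b, hQN a, hQN b, b11 a b, ha, ?_, ?_, ?_⟩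
  · intro c hc
    have h5 := halt b
    rw [hc, polar_smul_left, hab, smul_eq_mul, mul_one] at h5
    rw [h5, zero_smul] at hc
    rw [hc, polar_zero_left] at hba
    exact neg_ne_zero.2 one_ne_zero hba.symm
  · ext v
    rw [siegel_apply, hQN b, zero_mul, zero_smul, sub_zero]
    have h5 : u v = v + N v := by rw [hN, nn_apply]; abel
    rw [h5, hform v]
    abel
  · intro i v hv
    rw [hrange] at hv ⊢
    obtain ⟨x, rfl⟩ := hv
    refine ⟨X i x, ?_⟩
    rw [hN, nn_apply, nn_apply, map_sub, hcu]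

end core

/-- the restriction to one of the two pieces -/
theorem piece (hQ : Nondeg Q) (h2 : (2 : F) ≠ 0) {u : V ≃ₗ[F] V} (hu : ∀ v, Q (u v) = Q v) {p : ℕ}
    {W W' : Submodule F V} (hc : IsCompl W W') (ho : ∀ x ∈ W, ∀ y ∈ W', polar Q x y = 0)
    (h4 : finrank F W ≤ 4) (hWu : ∀ v ∈ W, u v ∈ W) (hN2 : ∀ v ∈ W, nn u (nn u v) = 0) (hne : ∃ v ∈ W, nn u v ≠ 0) :
    finrank F W = 4 ∧ finrank F (LinearMap.range (rs u hWu)) = 2 := by
  have hnd : NdOn Q W := NdOn.of_compl hQ hc.codisjoint ho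
  refine rank_two h2 (pb_sym W) (pb_nondeg hnd) (rs_iso hWu hu) h4 (fun x => Subtype.ext (hN2 x x.2)) ?_
  obtain ⟨v, hv, hv0⟩ := hne
  intro h0
  apply hv0
  have h5 := rs_coe hWu ⟨v, hv⟩
  rw [h0] at h5
  exact h5.symm

/-- **BOX F5** -/
theorem box_uni [Finite F] (hG : Good Q) {p : ℕ} [CharP F p] (hp2 : p ≠ 2)
    (h7 : 7 ≤ Module.finrank F V) (hodd : Odd (Module.finrank F V))
    (u : V ≃ₗ[F] V) (hu : u ∈ O Q) (hup : u ^ p = 1) (hu1 : u ≠ 1)
    {ι : Type*} [Finite ι] [Nonempty ι] (X : ι → V ≃ₗ[F] V) (r : ι → ℕ)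
    (hO : ∀ i, X i ∈ O Q) (hr : ∀ i, (r i).Prime) (hrp : ∀ i, r i ≠ p) (hpow : ∀ i, X i ^ r i = 1)
    (hc : ∀ i j, X i * X j = X j * X i) (hcu : ∀ i, X i * u = u * X i)
    (hns : ∀ i, X i ≠ 1 ∧ ∃ v, X i v ≠ -v) :
    (∃ W : Submodule F V, Good (Q.comp W.subtype) ∧ W ≠ ⊤ ∧ (∀ i, ∀ v ∈ W, X i v ∈ W) ∧
      (∀ v ∈ W, u v ∈ W) ∧ ∃ v ∈ W, u v ≠ v) ∨
    (∃ (e f b : V) (h : Hyp Q e f) (heb : polar Q e b = 0), polar Q f b = 0 ∧ Q b ≠ 0 ∧
      (∀ i, (∀ v ∈ Submodule.span F {e, f, b}, X i v = v) ∨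
        ∀ v ∈ Submodule.span F {e, f, b}, X i v = -v) ∧
      ∀ v ∈ Submodule.span F {e, f, b}, u v = siegel Q e b h.left heb v) ∨
    (∃ (e w : V) (he : Q e = 0) (hw : Q w = 0) (hew : polar Q e w = 0), e ≠ 0 ∧ (∀ a : F, w ≠ a • e) ∧
      u = siegel Q e w he hew ∧ ∀ i, ∀ v ∈ Submodule.span F {e, w}, X i v ∈ Submodule.span F {e, w}) := by
  have hpp : p.Prime := CharP.char_is_prime F p
  haveI : Fact p.Prime := ⟨hpp⟩
  have hQ : Nondeg Q := hG.nondeg
  have h2 : (2 : F) ≠ 0 := by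
    intro h0
    have h1 : ((2 : ℕ) : F) = 0 := by exact_mod_cast h0
    rw [CharP.cast_eq_zero_iff F p] at h1
    exact hp2 ((Nat.prime_dvd_prime_iff_eq hpp Nat.prime_two).1 h1)
  have hrF : ∀ i, ((r i : ℕ) : F) ≠ 0 := by
    intro i h0
    rw [CharP.cast_eq_zero_iff F p] at h0
    exact hrp i ((Nat.prime_dvd_prime_iff_eq hpp (hr i)).1 h0).symm
  have hcv : ∀ i j v, X i (X j v) = X j (X i v) := fun i j v => LinearEquiv.congr_fun (hc i j) v
  have hcuv : ∀ i v, X i (u v) = u (X i v) := fun i v => LinearEquiv.congr_fun (hcu i) v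
  obtain ⟨i₁⟩ := ‹Nonempty ι›
  set s := X i₁ with hs
  have hcompl := fx_cm_compl (hrF i₁) (hpow i₁)
  have hperp := fx_cm_perp (Q := Q) (hO i₁)
  have hbot := fx_ne_bot hQ h2 hodd (hO i₁) (hr i₁) (hpow i₁) (hns i₁).2
  have hbot' : LinearMap.range (nn s) ≠ ⊥ := by
    intro h0
    apply (hns i₁).1
    ext v
    have h1 : nn s v = 0 := by
      rw [LinearMap.range_eq_bot] at h0
      rw [h0]; rfl
    rw [nn_apply] at h1
    exact sub_eq_zero.1 h1
  -- both pieces, as a family
  have inv1 : ∀ g : V ≃ₗ[F] V, (∀ v, g (s v) = s (g v)) → ∀ v ∈ LinearMap.ker (nn s), g v ∈ LinearMap.ker (nn s) := by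
    intro g hg v hv
    rw [mem_fx] at hv ⊢
    rw [← hg, hv]
  have inv2 : ∀ g : V ≃ₗ[F] V, (∀ v, g (s v) = s (g v)) →
      ∀ v ∈ LinearMap.range (nn s), g v ∈ LinearMap.range (nn s) := by
    rintro g hg _ ⟨v, rfl⟩
    refine ⟨g v, ?_⟩
    rw [nn_apply, nn_apply, map_sub, hg]
  -- the main statement for a pair of complementary pieces
  have main : ∀ W W' : Submodule F V, IsCompl W W' → (∀ x ∈ W, ∀ y ∈ W', polar Q x y = 0) → W ≠ ⊥ → W' ≠ ⊥ →
      (∀ i, ∀ v ∈ W, X i v ∈ W) → (∀ v ∈ W, u v ∈ W) → (∃ v ∈ W, nn u v ≠ 0) →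
      (∃ W : Submodule F V, Good (Q.comp W.subtype) ∧ W ≠ ⊤ ∧ (∀ i, ∀ v ∈ W, X i v ∈ W) ∧
        (∀ v ∈ W, u v ∈ W) ∧ ∃ v ∈ W, u v ≠ v) ∨
      (∃ (e f b : V) (h : Hyp Q e f) (heb : polar Q e b = 0), polar Q f b = 0 ∧ Q b ≠ 0 ∧
        (∀ i, (∀ v ∈ Submodule.span F {e, f, b}, X i v = v) ∨
          ∀ v ∈ Submodule.span F {e, f, b}, X i v = -v) ∧
        ∀ v ∈ Submodule.span F {e, f, b}, u v = siegel Q e b h.left heb v) ∨
      (finrank F W = 4 ∧ (∀ v ∈ W, nn u (nn u v) = 0) ∧
        finrank F (W.map (nn u)) = 2) := by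
    intro W W' hcW ho hb hb' hWX hWu hne
    have hnd : NdOn Q W := NdOn.of_compl hQ hcW.codisjoint ho
    by_cases h5 : 5 ≤ finrank F W
    · left
      refine ⟨W, Cfsg.Agent.LieClassical.OrthFinite.good_of_finite hnd.nondeg h5, ?_, hWX, hWu, ?_⟩
      · rintro rfl
        apply hb'
        have := hcW.disjoint
        rwa [top_disjoint] at this
      · obtain ⟨v, hv, hv0⟩ := hne
        refine ⟨v, hv, fun h => hv0 ?_⟩
        rw [nn_apply, h, sub_self]
    · right
      have h4 : finrank F W ≤ 4 := by omega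
      by_cases hN2 : ∀ v ∈ W, nn u (nn u v) = 0
      · right
        obtain ⟨e1, e2⟩ := piece (p := p) hQ h2 hu hcW ho h4 hWu hN2 hne
        refine ⟨e1, hN2, ?_⟩
        rw [← e2]
        have h6 : W.map (nn u) = (LinearMap.range (rs u hWu)).map W.subtype := by
          ext v
          constructor
          · rintro ⟨w, hw, rfl⟩
            exact ⟨rs u hWu ⟨w, hw⟩, ⟨⟨w, hw⟩, rfl⟩, rfl⟩
          · rintro ⟨_, ⟨w, rfl⟩, rfl⟩
            exact ⟨w, w.2, rfl⟩
        rw [h6]
        exact Submodule.finrank_map_subtype_eq W _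
      · left
        push Not at hN2
        obtain ⟨w, hw, hw2⟩ := hN2
        exact case_b h2 hu hup hO hrF hpow hcv hcuv hnd h4 hWu hWX hw hw2
  have hsum := Submodule.finrank_add_eq_of_isCompl hcompl
  -- a piece carrying `u`
  have fin : ∀ W W' : Submodule F V, IsCompl W W' → (∀ v ∈ W', nn u v = 0) → (∀ v ∈ W, nn u (nn u v) = 0) →
      finrank F (W.map (nn u)) = 2 → 
      (∃ (e w : V) (he : Q e = 0) (hw : Q w = 0) (hew : polar Q e w = 0), e ≠ 0 ∧ (∀ a : F, w ≠ a • e) ∧
        u = siegel Q e w he hew ∧ ∀ i, ∀ v ∈ Submodule.span F {e, w}, X i v ∈ Submodule.span F {e, w}) := by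
    intro W W' hcW h0 hN2 hrk
    have hdec : ∀ v : V, ∃ a ∈ W, nn u v = nn u a := by
      intro v
      have hv : v ∈ W ⊔ W' := by rw [hcW.sup_eq_top]; trivial
      obtain ⟨a, ha, b, hb, rfl⟩ := Submodule.mem_sup.1 hv
      exact ⟨a, ha, by rw [map_add, h0 b hb, add_zero]⟩
    refine case_c hQ h2 hu ?_ ?_ ?_ hcuv
    · by_contra hcon
      push Not at hcon
      apply hu1
      ext v
      have h1 := hcon v
      rw [nn_apply] at h1
      exact sub_eq_zero.1 h1
    · intro v
      obtain ⟨a, ha, hva⟩ := hdec v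
      rw [hva, hN2 a ha]
    · have h1 : LinearMap.range (nn u) = W.map (nn u) := by
        ext v
        constructor
        · rintro ⟨w, rfl⟩
          obtain ⟨a, ha, hwa⟩ := hdec w
          exact ⟨a, ha, hwa.symm⟩
        · rintro ⟨w, -, rfl⟩
          exact ⟨w, rfl⟩
      rw [h1, hrk]
  have hperp' : ∀ x ∈ LinearMap.range (nn s), ∀ y ∈ LinearMap.ker (nn s), polar Q x y = 0 := fun x hx y hy => by
    rw [polar_comm]
    exact hperp y hy x hx
  by_cases c1 : ∃ v ∈ LinearMap.ker (nn s), nn u v ≠ 0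
  · rcases main _ _ hcompl hperp hbot hbot' (fun i => inv1 _ (hcv i i₁)) (inv1 u fun v => (hcuv i₁ v).symm) c1 with h | h | ⟨h, hN, hrk⟩
    · exact Or.inl h
    · exact Or.inr (Or.inl h)
    · by_cases c2 : ∃ v ∈ LinearMap.range (nn s), nn u v ≠ 0
      · rcases main _ _ hcompl.symm hperp' hbot' hbot (fun i => inv2 _ (hcv i i₁)) (inv2 u fun v => (hcuv i₁ v).symm) c2 with h' | h' | ⟨h', hN', hrk'⟩
        · exact Or.inl h'
        · exact Or.inr (Or.inl h')
        · exfalso
          rw [← hsum, h, h'] at hodd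
          exact absurd hodd (by decide)
      · push Not at c2
        exact Or.inr (Or.inr (fin _ _ hcompl c2 hN hrk))
  · push Not at c1
    have c2 : ∃ v ∈ LinearMap.range (nn s), nn u v ≠ 0 := by
      by_contra hcon
      push Not at hcon
      apply hu1
      ext v
      have hv : v ∈ LinearMap.ker (nn s) ⊔ LinearMap.range (nn s) := by rw [hcompl.sup_eq_top]; trivial
      obtain ⟨a, ha, b, hb, rfl⟩ := Submodule.mem_sup.1 hv
      have h1 : nn u (a + b) = 0 := by rw [map_add, c1 a ha, hcon b hb, add_zero]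
      rw [nn_apply] at h1
      exact sub_eq_zero.1 h1
    rcases main _ _ hcompl.symm hperp' hbot' hbot (fun i => inv2 _ (hcv i i₁)) (inv2 u fun v => (hcuv i₁ v).symm) c2 with h' | h' | ⟨h', hN', hrk'⟩
    · exact Or.inl h'
    · exact Or.inr (Or.inl h')
    · exact Or.inr (Or.inr (fin _ _ hcompl.symm c1 hN' hrk'))

end Cfsg.Agent.H205.RC
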