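import Cfsg.Agent.H205.RC.Uni

/-!
# S3510, row F, even dimension, box E6 (helper205): an element of order `p`, invariant orthogonal splitting
-/

set_option autoImplicit false
set_option linter.unusedSectionVars false

namespace Cfsg.Agent.H205.RC

open Cfsg QuadraticMap Module
open Cfsg.Agent.LieClassical.OrthCore Cfsg.Agent.LieClassical.OrthTrans

variable {F V : Type*} [Field F] [AddCommGroup V] [Module F V] [FiniteDimensional F V] {Q : QuadraticForm F V}

/-- the plane of a long root element on a nondegenerate subspace -/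
theorem plane_of (h2 : (2 : F) ≠ 0) {u : V ≃ₗ[F] V} (hu : ∀ v, Q (u v) = Q v) {W : Submodule F V} (hnd : NdOn Q W)
    (hWu : ∀ v ∈ W, u v ∈ W) (hN2 : ∀ v ∈ W, nn u (nn u v) = 0) (hne : ∃ v ∈ W, nn u v ≠ 0)
    (hrk : finrank F (W.map (nn u)) ≤ 2) :
    ∃ e ∈ W, ∃ w ∈ W, Q e = 0 ∧ Q w = 0 ∧ polar Q e w = 0 ∧ LinearIndependent F ![e, w] ∧
      (∀ v ∈ W, nn u v = polar Q e v • w - polar Q w v • e) ∧ Submodule.span F {e, w} = W.map (nn u) := by
  have iso := nn_iso (u := u) hu
  have hNW : ∀ v ∈ W, nn u v ∈ W := nn_mem hWu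
  set N := nn u with hN
  have b11 : ∀ x ∈ W, ∀ y ∈ W, polar Q (N x) (N y) = 0 := by
    intro x _ y hy
    have h := iso x (N y)
    rw [hN2 y hy, polar_zero_right, polar_zero_right, add_zero, add_zero] at h
    exact h
  have hsk : ∀ x ∈ W, ∀ y ∈ W, polar Q (N x) y = -polar Q (N y) x := by
    intro x hx y hy
    have h := iso x y
    rw [b11 x hx y hy, polar_comm Q x (N y)] at h
    linear_combination h
  have halt : ∀ x ∈ W, polar Q (N x) x = 0 := by
    intro x hx
    have h := hsk x hx x hx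
    have h5 : 2 * polar Q (N x) x = 0 := by linear_combination h
    exact (mul_eq_zero.1 h5).resolve_left h2
  have hQN : ∀ x ∈ W, Q (N x) = 0 := by
    intro x hx
    have h := two_mul_Q (Q := Q) (N x)
    rw [b11 x hx x hx] at h
    exact (mul_eq_zero.1 h.symm).resolve_left h2
  obtain ⟨a, haW, ha⟩ := hne
  obtain ⟨b0, hb0W, hb0⟩ : ∃ b0 ∈ W, polar Q (N a) b0 ≠ 0 := by
    by_contra hcon
    push Not at hcon
    exact ha (hnd _ (hNW a haW) hcon)
  set b := (polar Q (N a) b0)⁻¹ • b0 with hb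
  have hbW : b ∈ W := W.smul_mem _ hb0W
  have hab : polar Q (N a) b = 1 := by
    rw [hb, polar_smul_right, smul_eq_mul, inv_mul_cancel₀ hb0]
  have hba : polar Q (N b) a = -1 := by rw [hsk b hbW a haW, hab]
  have hli : LinearIndependent F ![N a, N b] := by
    rw [LinearIndependent.pair_iff]
    intro c d hcd
    have h5 : polar Q (c • N a + d • N b) b = 0 := by rw [hcd, polar_zero_left]
    rw [polar_add_left, polar_smul_left, polar_smul_left, hab, halt b hbW, smul_zero, add_zero, smul_eq_mul, mul_one] at h5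
    have h6 : polar Q (c • N a + d • N b) a = 0 := by rw [hcd, polar_zero_left]
    rw [polar_add_left, polar_smul_left, polar_smul_left, hba, halt a haW, smul_zero, zero_add, smul_eq_mul] at h6
    exact ⟨h5, by linear_combination -h6⟩
  have hle : Submodule.span F {N a, N b} ≤ W.map N := by
    rw [Submodule.span_le]
    rintro _ (rfl | rfl)
    · exact ⟨a, haW, rfl⟩
    · exact ⟨b, hbW, rfl⟩
  have hrange : Submodule.span F {N a, N b} = W.map N := by
    apply Submodule.eq_of_le_of_finrank_le hle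
    have h5 := finrank_span_eq_card hli
    rw [Matrix.range_cons_cons_empty] at h5
    rw [h5]
    exact hrk
  refine ⟨N a, hNW a haW, N b, hNW b hbW, hQN a haW, hQN b hbW, b11 a haW b hbW, hli, ?_, hrange⟩
  intro v hv
  have h5 : N v ∈ Submodule.span F {N a, N b} := by
    rw [hrange]
    exact ⟨v, hv, rfl⟩
  obtain ⟨c, d, hcd⟩ := Submodule.mem_span_pair.1 h5
  have h6 := hsk v hv b hbW
  rw [← hcd, polar_add_left, polar_smul_left, polar_smul_left, hab, halt b hbW, smul_zero, add_zero, smul_eq_mul,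
    mul_one] at h6
  have h7 := hsk v hv a haW
  rw [← hcd, polar_add_left, polar_smul_left, polar_smul_left, hba, halt a haW, smul_zero, zero_add, smul_eq_mul] at h7
  have h8 : d = polar Q (N a) v := by linear_combination -h7
  rw [← hcd, h6, ← h8]
  module

/-- **BOX E6** -/
theorem box_uni_split [Finite F] (hG : Good Q) {p : ℕ} [CharP F p] (hp2 : p ≠ 2)
    (h7 : 7 ≤ Module.finrank F V)
    (u : V ≃ₗ[F] V) (hu : u ∈ O Q) (hup : u ^ p = 1) (hu1 : u ≠ 1)
    {ι : Type*} [Finite ι] (X : ι → V ≃ₗ[F] V) (r : ι → ℕ)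
    (hO : ∀ i, X i ∈ O Q) (hr : ∀ i, (r i).Prime) (hrp : ∀ i, r i ≠ p) (hpow : ∀ i, X i ^ r i = 1)
    (hc : ∀ i j, X i * X j = X j * X i) (hcu : ∀ i, X i * u = u * X i)
    (D D' : Submodule F V) (hD : IsCompl D D') (ho : ∀ x ∈ D, ∀ y ∈ D', polar Q x y = 0) (hb : D ≠ ⊥) (hb' : D' ≠ ⊥)
    (hXD : ∀ i, ∀ v ∈ D, X i v ∈ D) (hXD' : ∀ i, ∀ v ∈ D', X i v ∈ D') (huD : ∀ v ∈ D, u v ∈ D)
    (huD' : ∀ v ∈ D', u v ∈ D') :
    (∃ W : Submodule F V, Good (Q.comp W.subtype) ∧ W ≠ ⊤ ∧ (∀ i, ∀ v ∈ W, X i v ∈ W) ∧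
      (∀ v ∈ W, u v ∈ W) ∧ ∃ v ∈ W, u v ≠ v) ∨
    (∃ (e f b : V) (h : Hyp Q e f) (heb : polar Q e b = 0), polar Q f b = 0 ∧ Q b ≠ 0 ∧
      (∀ i, (∀ v ∈ Submodule.span F {e, f, b}, X i v = v) ∨
        ∀ v ∈ Submodule.span F {e, f, b}, X i v = -v) ∧
      ∀ v ∈ Submodule.span F {e, f, b}, u v = siegel Q e b h.left heb v) ∨
    (∃ (e w : V) (he : Q e = 0) (hw : Q w = 0) (hew : polar Q e w = 0), e ≠ 0 ∧ (∀ a : F, w ≠ a • e) ∧
      u = siegel Q e w he hew ∧ ∀ i, ∀ v ∈ Submodule.span F {e, w}, X i v ∈ Submodule.span F {e, w}) ∨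
    (finrank F D = 4 ∧ finrank F D' = 4 ∧
      ∃ (e w : V) (he : Q e = 0) (hw : Q w = 0) (hew : polar Q e w = 0) (e' w' : V) (he' : Q e' = 0)
        (hw' : Q w' = 0) (hew' : polar Q e' w' = 0), e ∈ D ∧ w ∈ D ∧ e' ∈ D' ∧ w' ∈ D' ∧
        LinearIndependent F ![e, w] ∧ LinearIndependent F ![e', w'] ∧
        u = siegel Q e w he hew * siegel Q e' w' he' hew' ∧
        (∀ i, ∀ v ∈ Submodule.span F {e, w}, X i v ∈ Submodule.span F {e, w}) ∧
        (∀ i, ∀ v ∈ Submodule.span F {e', w'}, X i v ∈ Submodule.span F {e', w'})) := by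
  have hpp : p.Prime := CharP.char_is_prime F p
  have : Fact p.Prime := ⟨hpp⟩
  have hQ : Nondeg Q := hG.nondeg
  have h2 : (2 : F) ≠ 0 := by
    intro h0
    have h1 : ((2 : ℕ) : F) = 0 := by exact_mod_cast h0
    rw [CharP.cast_eq_zero_iff F p] at h1
    exact hp2 ((Nat.prime_dvd_prime_iff_eq hpp Nat.prime_two).1 h1)
  have hrF : ∀ i, ((r i : ℕ) : F) ≠ 0 := by
    intro i h0
    rw [CharP.cast_eq_zero_iff F p] at h0
    exact hrp i ((Nat.prime_dvd_prime_iff_eq hpp (hr i)).1 h0).symm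
  have hcv : ∀ i j v, X i (X j v) = X j (X i v) := fun i j v => LinearEquiv.congr_fun (hc i j) v
  have hcuv : ∀ i v, X i (u v) = u (X i v) := fun i v => LinearEquiv.congr_fun (hcu i) v
  have hXN : ∀ i v, X i (nn u v) = nn u (X i v) := by
    intro i v
    rw [nn_apply, nn_apply, map_sub, hcuv]
  have main : ∀ W W' : Submodule F V, IsCompl W W' → (∀ x ∈ W, ∀ y ∈ W', polar Q x y = 0) → W ≠ ⊥ → W' ≠ ⊥ →
      (∀ i, ∀ v ∈ W, X i v ∈ W) → (∀ v ∈ W, u v ∈ W) → (∃ v ∈ W, nn u v ≠ 0) →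
      (∃ W : Submodule F V, Good (Q.comp W.subtype) ∧ W ≠ ⊤ ∧ (∀ i, ∀ v ∈ W, X i v ∈ W) ∧
        (∀ v ∈ W, u v ∈ W) ∧ ∃ v ∈ W, u v ≠ v) ∨
      (∃ (e f b : V) (h : Hyp Q e f) (heb : polar Q e b = 0), polar Q f b = 0 ∧ Q b ≠ 0 ∧
        (∀ i, (∀ v ∈ Submodule.span F {e, f, b}, X i v = v) ∨
          ∀ v ∈ Submodule.span F {e, f, b}, X i v = -v) ∧
        ∀ v ∈ Submodule.span F {e, f, b}, u v = siegel Q e b h.left heb v) ∨
      (finrank F W = 4 ∧ (∀ v ∈ W, nn u (nn u v) = 0) ∧
        finrank F (W.map (nn u)) = 2) := by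
    intro W W' hcW ho hb hb' hWX hWu hne
    have hnd : NdOn Q W := NdOn.of_compl hQ hcW.codisjoint ho
    by_cases h5 : 5 ≤ finrank F W
    · left
      refine ⟨W, Cfsg.Agent.LieClassical.OrthFinite.good_of_finite hnd.nondeg h5, ?_, hWX, hWu, ?_⟩
      · rintro rfl
        apply hb'
        have := hcW.disjoint
        rwa [top_disjoint] at this
      · obtain ⟨v, hv, hv0⟩ := hne
        refine ⟨v, hv, fun h => hv0 ?_⟩
        rw [nn_apply, h, sub_self]
    · right
      have h4 : finrank F W ≤ 4 := by omega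
      by_cases hN2 : ∀ v ∈ W, nn u (nn u v) = 0
      · right
        obtain ⟨e1, e2⟩ := piece (p := p) hQ h2 hu hcW ho h4 hWu hN2 hne
        refine ⟨e1, hN2, ?_⟩
        rw [← e2]
        have h6 : W.map (nn u) = (LinearMap.range (rs u hWu)).map W.subtype := by
          ext v
          constructor
          · rintro ⟨w, hw, rfl⟩
            exact ⟨rs u hWu ⟨w, hw⟩, ⟨⟨w, hw⟩, rfl⟩, rfl⟩
          · rintro ⟨_, ⟨w, rfl⟩, rfl⟩
            exact ⟨w, w.2, rfl⟩
        rw [h6]
        exact Submodule.finrank_map_subtype_eq W _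
      · left
        push Not at hN2
        obtain ⟨w, hw, hw2⟩ := hN2
        exact case_b h2 hu hup hO hrF hpow hcv hcuv hnd h4 hWu hWX hw hw2
  -- a piece carrying `u`
  have fin : ∀ W W' : Submodule F V, IsCompl W W' → (∀ v ∈ W', nn u v = 0) → (∀ v ∈ W, nn u (nn u v) = 0) →
      finrank F (W.map (nn u)) = 2 →
      (∃ (e w : V) (he : Q e = 0) (hw : Q w = 0) (hew : polar Q e w = 0), e ≠ 0 ∧ (∀ a : F, w ≠ a • e) ∧
        u = siegel Q e w he hew ∧ ∀ i, ∀ v ∈ Submodule.span F {e, w}, X i v ∈ Submodule.span F {e, w}) := by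
    intro W W' hcW h0 hN2 hrk
    have hdec : ∀ v : V, ∃ a ∈ W, nn u v = nn u a := by
      intro v
      have hv : v ∈ W ⊔ W' := by rw [hcW.sup_eq_top]; trivial
      obtain ⟨a, ha, b, hb, rfl⟩ := Submodule.mem_sup.1 hv
      exact ⟨a, ha, by rw [map_add, h0 b hb, add_zero]⟩
    refine case_c hQ h2 hu ?_ ?_ ?_ hcuv
    · by_contra hcon
      push Not at hcon
      apply hu1
      ext v
      have h1 := hcon v
      rw [nn_apply] at h1
      exact sub_eq_zero.1 h1
    · intro v
      obtain ⟨a, ha, hva⟩ := hdec v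
      rw [hva, hN2 a ha]
    · have h1 : LinearMap.range (nn u) = W.map (nn u) := by
        ext v
        constructor
        · rintro ⟨w, rfl⟩
          obtain ⟨a, ha, hwa⟩ := hdec w
          exact ⟨a, ha, hwa.symm⟩
        · rintro ⟨w, -, rfl⟩
          exact ⟨w, rfl⟩
      rw [h1, hrk]
  have ho' : ∀ x ∈ D', ∀ y ∈ D, polar Q x y = 0 := fun x hx y hy => by
    rw [polar_comm]
    exact ho y hy x hx
  by_cases c1 : ∃ v ∈ D, nn u v ≠ 0
  · rcases main _ _ hD ho hb hb' hXD huD c1 with h | h | ⟨h, hN, hrk⟩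
    · exact Or.inl h
    · exact Or.inr (Or.inl h)
    · by_cases c2 : ∃ v ∈ D', nn u v ≠ 0
      · rcases main _ _ hD.symm ho' hb' hb hXD' huD' c2 with h' | h' | ⟨h', hN', hrk'⟩
        · exact Or.inl h'
        · exact Or.inr (Or.inl h')
        · refine Or.inr (Or.inr (Or.inr ⟨h, h', ?_⟩))
          obtain ⟨e, heD, w, hwD, he, hw, hew, hli, hf, hsp⟩ :=
            plane_of h2 hu (NdOn.of_compl hQ hD.codisjoint ho) huD hN c1 hrk.le
          obtain ⟨e', heD', w', hwD', he', hw', hew', hli', hf', hsp'⟩ :=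
            plane_of h2 hu (NdOn.of_compl hQ hD.symm.codisjoint ho') huD' hN' c2 hrk'.le
          have hinv : ∀ W : Submodule F V, (∀ i, ∀ v ∈ W, X i v ∈ W) → ∀ i, ∀ v ∈ W.map (nn u), X i v ∈ W.map (nn u) := by
            rintro W hW i _ ⟨v, hv, rfl⟩
            exact ⟨X i v, hW i v hv, (hXN i v).symm⟩
          refine ⟨e, w, he, hw, hew, e', w', he', hw', hew', heD, hwD, heD', hwD', hli, hli', ?_, ?_, ?_⟩
          · ext v
            have hv : v ∈ D ⊔ D' := by rw [hD.sup_eq_top]; trivial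
            obtain ⟨a, ha, b, hb, rfl⟩ := Submodule.mem_sup.1 hv
            change u (a + b) = siegel Q e w he hew (siegel Q e' w' he' hew' (a + b))
            have e1 : siegel Q e' w' he' hew' (a + b) = a + (b + (polar Q e' b • w' - polar Q w' b • e')) := by
              rw [siegel_apply, hw', zero_mul, zero_smul, sub_zero, polar_add_right, polar_add_right,
                ho' e' heD' a ha, ho' w' hwD' a ha, zero_add, zero_add]
              abel
            have hbD : b + (polar Q e' b • w' - polar Q w' b • e') ∈ D' :=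
              D'.add_mem hb (D'.sub_mem (D'.smul_mem _ hwD') (D'.smul_mem _ heD'))
            have e3 : ∀ z ∈ D', siegel Q e w he hew (a + z) = a + z + (polar Q e a • w - polar Q w a • e) := by
              intro z hz
              rw [siegel_apply, hw, zero_mul, zero_smul, sub_zero, polar_add_right, polar_add_right,
                ho e heD _ hz, ho w hwD _ hz, add_zero, add_zero]
              abel
            rw [e1, e3 _ hbD]
            have e2 : u (a + b) = a + b + (nn u a + nn u b) := by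
              rw [← map_add, nn_apply]
              abel
            rw [e2, hf a ha, hf' b hb]
            abel
          · rw [hsp]
            exact hinv D hXD
          · rw [hsp']
            exact hinv D' hXD'
      · push Not at c2
        exact Or.inr (Or.inr (Or.inl (fin _ _ hD c2 hN hrk)))
  · push Not at c1
    have c2 : ∃ v ∈ D', nn u v ≠ 0 := by
      by_contra hcon
      push Not at hcon
      apply hu1
      ext v
      have hv : v ∈ D ⊔ D' := by rw [hD.sup_eq_top]; trivial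
      obtain ⟨a, ha, b, hb, rfl⟩ := Submodule.mem_sup.1 hv
      have h1 : nn u (a + b) = 0 := by rw [map_add, c1 a ha, hcon b hb, add_zero]
      rw [nn_apply] at h1
      exact sub_eq_zero.1 h1
    rcases main _ _ hD.symm ho' hb' hb hXD' huD' c2 with h' | h' | ⟨h', hN', hrk'⟩
    · exact Or.inl h'
    · exact Or.inr (Or.inl h')
    · exact Or.inr (Or.inr (Or.inl (fin _ _ hD.symm c1 hN' hrk')))

end Cfsg.Agent.H205.RC
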